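import Groth.Agent.SweepSix.Thick
import Mathlib

/-!
# Finite type along a cartesian square with nilpotent kernel upstairs
-/

set_option autoImplicit false
universe u

open CategoryTheory CategoryTheory.Limits AlgebraicGeometry

namespace AlgSpThickLib

variable {R A S B : CommRingCat.{u}} {a : R ⟶ A} {φ : R ⟶ S} {ψ : A ⟶ B} {b : S ⟶ B}

/-- Variant of `SweepSix.finiteType_of_nilpotent` with nilpotence upstairs. -/
theorem finiteType_of_nilpotent_source (sq : IsPushout a φ ψ b) (ha : Function.Surjective a.hom)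
    (hn : IsNilpotent (RingHom.ker b.hom)) (hψ : ψ.hom.FiniteType) : φ.hom.FiniteType := by
  have hmap : (RingHom.ker a.hom).map φ.hom ≤ RingHom.ker b.hom := Ideal.map_le_iff_le_comap.2 fun x hx => by
    have h : ψ.hom (a.hom x) = b.hom (φ.hom x) := congrArg (fun m => m.hom x) sq.w
    rw [show a.hom x = 0 from hx, map_zero] at h
    exact h.symm
  have hker := SweepSix.ker_le_map_ker sq ha
  have hbs := SweepSix.surjective_inr sq ha
  algebraize [a.hom, φ.hom, ψ.hom, b.hom, b.hom.comp φ.hom]
  have : IsScalarTower R A B := .of_algebraMap_eq' (congrArg CommRingCat.Hom.hom sq.w).symm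
  have : Algebra.FiniteType R A :=
    .of_surjective (IsScalarTower.toAlgHom R R A) ha
  have : Algebra.FiniteType R B := Algebra.FiniteType.trans (S := A) inferInstance inferInstance
  obtain ⟨s, hs⟩ := (inferInstance : Algebra.FiniteType R B).out
  choose g hg using hbs
  classical
  refine ⟨⟨s.image g, top_unique ?_⟩⟩
  let T := Algebra.adjoin R ((s.image g : Finset S) : Set S)
  have hTmap : T.map (IsScalarTower.toAlgHom R S B) = ⊤ := by
    rw [AlgHom.map_adjoin, eq_top_iff, ← hs]
    refine Algebra.adjoin_mono fun x hx => ⟨g x, by simpa using ⟨x, hx, rfl⟩, hg x⟩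
  set J := RingHom.ker a.hom
  have h1 : (⊤ : Submodule R S) ≤ Subalgebra.toSubmodule T ⊔ J • ⊤ := by
    intro x _
    obtain ⟨t, ht, hxt⟩ : IsScalarTower.toAlgHom R S B x ∈ T.map (IsScalarTower.toAlgHom R S B) :=
      hTmap ▸ Algebra.mem_top
    rw [← add_sub_cancel t x]
    refine Submodule.add_mem_sup ht ?_
    have hd : x - t ∈ J.map (algebraMap R S) := hker (by
      rw [RingHom.mem_ker, map_sub, sub_eq_zero]
      exact hxt.symm)
    rw [Ideal.smul_top_eq_map]
    exact hd
  have h2 : ∀ k, (⊤ : Submodule R S) ≤ Subalgebra.toSubmodule T ⊔ J ^ k • ⊤ := by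
    intro k
    induction k with
    | zero => rw [pow_zero, Ideal.one_eq_top, Submodule.top_smul]; exact le_sup_right
    | succ k ih =>
      refine ih.trans (sup_le le_sup_left ?_)
      refine (Submodule.smul_mono le_rfl h1).trans ?_
      rw [Submodule.smul_sup, ← Submodule.smul_assoc, smul_eq_mul, ← pow_succ]
      exact sup_le_sup_right Submodule.smul_le_right _
  obtain ⟨n, hn⟩ := hn
  have hbot : J ^ n • (⊤ : Submodule R S) = ⊥ := by
    rw [Ideal.smul_top_eq_map, Submodule.restrictScalars_eq_bot_iff, Ideal.map_pow]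
    exact le_bot_iff.1 ((Ideal.pow_right_mono hmap n).trans hn.le)
  have := h2 n
  rw [hbot, sup_bot_eq] at this
  exact fun x _ => this trivial

/-- Cartesian square of affine schemes. -/
theorem lft_of_affine {X X' Y Y' : Scheme.{u}} {iX : X ⟶ X'} {iY : Y ⟶ Y'} {f : X ⟶ Y} {f' : X' ⟶ Y'}
    [IsAffine X'] [IsAffine Y'] [IsClosedImmersion iY] (hc : IsPullback iX f f' iY)
    (hn : IsNilpotent iX.ker) (h : LocallyOfFiniteType f) : LocallyOfFiniteType f' := by
  have : IsClosedImmersion iX := MorphismProperty.of_isPullback hc.flip ‹IsClosedImmersion iY›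
  have : IsAffine Y := isAffine_of_isAffineHom iY
  have : IsAffine X := isAffine_of_isAffineHom iX
  have sq := isPushout_appTop_of_isPullback hc.flip
  refine (HasRingHomProperty.iff_of_isAffine (P := @LocallyOfFiniteType)).2 ?_
  refine finiteType_of_nilpotent_source sq (iY.app_surjective ⊤ (isAffineOpen_top _)) ?_
    ((HasRingHomProperty.iff_of_isAffine (P := @LocallyOfFiniteType)).1 h)
  obtain ⟨n, hn⟩ := hn
  refine ⟨n, ?_⟩
  have h' : (iX.ker ^ n).ideal ⟨⊤, isAffineOpen_top X'⟩ = ⊥ := by rw [hn]; rfl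
  rw [Scheme.IdealSheafData.ideal_pow, Pi.pow_apply, Scheme.Hom.ker_apply] at h'
  exact h'

end AlgSpThickLib
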