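import Groth.Agent.AlgSpThickLib.Topo
import Groth.Agent.AlgSpThickLib.SchemeLFT
import Groth.Agent.AlgSpLib.LocP
import Groth.Agent.AlgSpLib.RelDim

/-!
# Charts of cartesian squares of thickenings
-/

set_option autoImplicit false
set_option linter.style.haveILetI false
universe u

open CategoryTheory CategoryTheory.Limits AlgebraicGeometry Topology
open AlgSp AlgSpLib

namespace AlgSpThickLib

variable {S : Scheme.{u}}

theorem exists_thick_chart {F G : Sp S} {j : F ⟶ G} (hj : IsThickMor j) {V : Over S} (b : (yon S).obj V ⟶ G) :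
    ∃ (V₀ : Over S) (jV : V₀ ⟶ V) (b₀ : (yon S).obj V₀ ⟶ F),
      IsPullback b₀ ((yon S).map jV) j b ∧ MoreMor.IsThickening jV.left :=
  ⟨_, _, _, hj.rep.isPullback b, hj.property_snd b⟩

/-- A chart of the base change of `f'` along a chart of the thickening. -/
theorem exists_square_chart {X X' Y Y' : Sp S} {i : X ⟶ X'} {j : Y ⟶ Y'} {f : X ⟶ Y} {f' : X' ⟶ Y'}
    (hc : IsPullback i f f' j) {U V V₀ : Over S} {a : (yon S).obj U ⟶ X'} {b : (yon S).obj V ⟶ Y'} {h : U ⟶ V}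
    (e : a ≫ f' = (yon S).map h ≫ b) {jV : V₀ ⟶ V} {b₀ : (yon S).obj V₀ ⟶ Y}
    (sqb : IsPullback b₀ ((yon S).map jV) j b) :
    ∃ (U₀ : Over S) (iU : U₀ ⟶ U) (a₀ : (yon S).obj U₀ ⟶ X) (h₀ : U₀ ⟶ V₀),
      IsPullback a₀ ((yon S).map iU) i a ∧ a₀ ≫ f = (yon S).map h₀ ≫ b₀ ∧
        IsPullback iU.left h₀.left h.left jV.left ∧ IsPullback iU h₀ h jV := by
  have sqh := IsPullback.of_hasPullback h jV
  have sqy := sqh.map (yon S)
  let a₀ : (yon S).obj (pullback h jV) ⟶ X := hc.lift ((yon S).map (pullback.fst h jV) ≫ a)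
    ((yon S).map (pullback.snd h jV) ≫ b₀) (by rw [Category.assoc, e, Category.assoc, sqb.w, reassoc_of% sqy.w])
  refine ⟨_, pullback.fst h jV, a₀, pullback.snd h jV, ?_, hc.lift_snd _ _ _, sqh.map (Over.forget S), sqh⟩
  refine (IsPullback.of_bot ?_ (hc.lift_fst _ _ _).symm hc).flip
  rw [hc.lift_snd, e]
  exact sqy.paste_vert sqb.flip

theorem etale_surjective_of_square {F G : Sp S} {i : F ⟶ G} {U U₀ : Over S} {a : (yon S).obj U ⟶ G}
    {iU : U₀ ⟶ U} {a₀ : (yon S).obj U₀ ⟶ F} (sq : IsPullback a₀ ((yon S).map iU) i a) :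
    (RepWith @Etale a → RepWith @Etale a₀) ∧ (RepWith @Surjective a → RepWith @Surjective a₀) :=
  ⟨fun h => repWith_of_isPullback sq.flip h, fun h => repWith_of_isPullback sq.flip h⟩

/-- The open piece of a scheme over `S`. -/
abbrev piece (U : Over S) (O : U.left.Opens) : Over S := Over.mk (O.ι ≫ U.hom)

/-- The inclusion of an open piece. -/
abbrev pieceι (U : Over S) (O : U.left.Opens) : piece U O ⟶ U := Over.homMk O.ι rfl

theorem etale_pieceι (U : Over S) (O : U.left.Opens) : RepWith @Etale ((yon S).map (pieceι U O)) :=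
  (repWith_yon_map_iff (P := (@Etale : MorphismProperty Scheme.{u})) _).2 (inferInstanceAs (Etale O.ι))

/-- The kernel of the base change of an `n`th order thickening to an etale chart. -/
theorem ker_pow_eq_bot {F G : Sp S} {n : ℕ} {i : F ⟶ G} (hi : IsNThickMor n i) {U U₀ : Over S}
    {a : (yon S).obj U ⟶ G} (ha : RepWith @Etale a) {iU : U₀ ⟶ U} {a₀ : (yon S).obj U₀ ⟶ F}
    (sq : IsPullback a₀ ((yon S).map iU) i a) : iU.left.ker ^ (n + 1) = ⊥ := by
  refine Scheme.IdealSheafData.ext (funext fun O => ?_)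
  let W : Over S := Over.mk ((iU.left ⁻¹ᵁ O.1).ι ≫ U₀.hom)
  let k : W ⟶ piece U O.1 := Over.homMk (iU.left ∣_ O.1) (by
    change (iU.left ∣_ O.1) ≫ O.1.ι ≫ U.hom = (iU.left ⁻¹ᵁ O.1).ι ≫ U₀.hom
    rw [morphismRestrict_ι_assoc, Over.w iU])
  let l : W ⟶ U₀ := Over.homMk (iU.left ⁻¹ᵁ O.1).ι rfl
  have sqO : IsPullback l k iU (pieceι U O.1) :=
    IsPullback.of_map (F := Over.forget S) (Over.OverMorphism.ext (morphismRestrict_ι iU.left O.1).symm)
      (isPullback_morphismRestrict iU.left O.1).flip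
  have hp : (iU.left ∣_ O.1).ker ^ (n + 1) = ⊥ :=
    hi.2 ((yon S).map (pieceι U O.1) ≫ a) ((yon S).map l ≫ a₀) k O.2 (repWith_comp (etale_pieceι U O.1) ha)
      ((sqO.map (yon S)).paste_horiz sq)
  have hq : IsAffine O.1.toScheme := O.2
  have h' : ((iU.left ∣_ O.1).ker ^ (n + 1)).ideal ⟨⊤, isAffineOpen_top _⟩ = ⊥ := by rw [hp]; rfl
  haveI : IsClosedImmersion iU.left :=
    ((repWith_yon_map_iff (P := thick) iU).1 (repWith_of_isPullback sq hi.1)).1
  haveI : IsClosedImmersion (iU.left ∣_ O.1) := IsZariskiLocalAtTarget.restrict ‹IsClosedImmersion iU.left› _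
  haveI : QuasiCompact (iU.left ∣_ O.1) := inferInstance
  rw [Scheme.IdealSheafData.ideal_pow, Pi.pow_apply, Scheme.Hom.ker_apply] at h'
  rw [Scheme.IdealSheafData.ideal_pow, Pi.pow_apply, Scheme.Hom.ker_apply, Scheme.IdealSheafData.ideal_bot]
  have key : ∀ (V : U.left.Opens), O.1.ι ''ᵁ ⊤ = V → RingHom.ker (iU.left.app V).hom ^ (n + 1) = ⊥ := by
    rintro V rfl
    refine le_bot_iff.1 ((Ideal.pow_right_mono ?_ _).trans h'.le)
    intro x hx
    have hx' : (iU.left.app (O.1.ι ''ᵁ ⊤)) x = 0 := hx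
    show (iU.left ∣_ O.1).app ⊤ x = 0
    rw [morphismRestrict_app]
    show (U₀.left.presheaf.map _) ((iU.left.app (O.1.ι ''ᵁ ⊤)) x) = 0
    rw [hx', map_zero]
  exact key _ (Scheme.Opens.ι_image_top _)

/-- A property local on source and target holds for `f` as soon as it holds on affine charts. -/
theorem locP_of_affine_charts {P : MorphismProperty Scheme.{u}} [IsZariskiLocalAtTarget P] [IsZariskiLocalAtSource P]
    {F G : Sp S} {f : F ⟶ G}
    (H : ∀ ⦃U V : Over S⦄ (a : (yon S).obj U ⟶ F) (b : (yon S).obj V ⟶ G) (h : U ⟶ V), IsAffine U.left →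
      IsAffine V.left → RepWith @Etale a → RepWith @Etale b → a ≫ f = (yon S).map h ≫ b → P h.left) :
    LocP P f := by
  intro U V a b h ha hb e
  refine (IsZariskiLocalAtTarget.iff_of_iSup_eq_top (P := P) (fun O : V.left.affineOpens => O.1)
    (iSup_affineOpens_eq_top _)).2 fun O => ?_
  refine (IsZariskiLocalAtSource.iff_of_openCover (P := P) ((h.left ⁻¹ᵁ O.1).toScheme.affineCover)).2 fun t => ?_
  set g := (h.left ⁻¹ᵁ O.1).toScheme.affineCover.f t with hg
  let U' : Over S := Over.mk ((g ≫ (h.left ⁻¹ᵁ O.1).ι) ≫ U.hom)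
  let p : U' ⟶ U := Over.homMk (g ≫ (h.left ⁻¹ᵁ O.1).ι) rfl
  let k : U' ⟶ piece V O.1 := Over.homMk (g ≫ h.left ∣_ O.1) (by
    change (g ≫ h.left ∣_ O.1) ≫ O.1.ι ≫ V.hom = (g ≫ (h.left ⁻¹ᵁ O.1).ι) ≫ U.hom
    rw [Category.assoc, morphismRestrict_ι_assoc, Over.w h, Category.assoc])
  have hk : p ≫ h = k ≫ pieceι V O.1 := Over.OverMorphism.ext (by
    change (g ≫ (h.left ⁻¹ᵁ O.1).ι) ≫ h.left = (g ≫ h.left ∣_ O.1) ≫ O.1.ι
    rw [Category.assoc, Category.assoc, morphismRestrict_ι])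
  refine H ((yon S).map p ≫ a) ((yon S).map (pieceι V O.1) ≫ b) k (inferInstanceAs (IsAffine (((h.left ⁻¹ᵁ O.1).toScheme.affineCover).X t))) O.2
    (repWith_comp ((repWith_yon_map_iff (P := (@Etale : MorphismProperty Scheme.{u})) p).2
      (inferInstanceAs (Etale (g ≫ (h.left ⁻¹ᵁ O.1).ι)))) ha)
    (repWith_comp (etale_pieceι V O.1) hb) ?_
  rw [Category.assoc, e, ← Functor.map_comp_assoc, hk, Functor.map_comp_assoc]

/-- Chart criterion in both directions. -/
theorem locP_iff_chart {P : MorphismProperty Scheme.{u}} [EtLocProp P] {F G : Sp S} {f : F ⟶ G} {U V : Over S}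
    {a : (yon S).obj U ⟶ F} {b : (yon S).obj V ⟶ G} {h : U ⟶ V} (ha : RepWith @Etale a)
    (has : RepWith @Surjective a) (hb : RepWith @Etale b) (e : a ≫ f = (yon S).map h ≫ b) :
    LocP P f ↔ P h.left :=
  ⟨fun H => H a b h ha hb e, locP_of_chart ha has hb e⟩

section Cart

variable {X X' Y Y' : Sp S} {i : X ⟶ X'} {j : Y ⟶ Y'} {f : X ⟶ Y} {f' : X' ⟶ Y'}
  (hX : IsAlgSpace X) (hX' : IsAlgSpace X') (hY : IsAlgSpace Y) (hY' : IsAlgSpace Y')
  (hj : IsThickMor j) (hc : IsPullback i f f' j)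

include hj hc

theorem locP_lft_of_thick (hi : IsFinThickMor i) (hft : LocP @LocallyOfFiniteType f) :
    LocP @LocallyOfFiniteType f' := by
  obtain ⟨n, hn⟩ := hi
  refine locP_of_affine_charts fun U V a b h hU hV ha hb e => ?_
  obtain ⟨V₀, jV, b₀, sqb, hjV⟩ := exists_thick_chart hj b
  obtain ⟨U₀, iU, a₀, h₀, sqa, e₀, sqh, -⟩ := exists_square_chart hc e sqb
  haveI : IsAffine U.left := hU
  haveI : IsAffine V.left := hV
  haveI := hjV.1
  exact lft_of_affine sqh ⟨n + 1, ker_pow_eq_bot hn ha sqa⟩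
    (hft a₀ b₀ h₀ ((etale_surjective_of_square sqa).1 ha) ((etale_surjective_of_square sqb).1 hb) e₀)

theorem locP_lqf_of_thick (hft' : LocP @LocallyOfFiniteType f')
    (h : LocP (@LocallyQuasiFinite ⊓ @LocallyOfFiniteType) f) :
    LocP (@LocallyQuasiFinite ⊓ @LocallyOfFiniteType) f' := by
  intro U V a b k ha hb e
  obtain ⟨V₀, jV, b₀, sqb, hjV⟩ := exists_thick_chart hj b
  obtain ⟨U₀, iU, a₀, h₀, sqa, e₀, sqh, -⟩ := exists_square_chart hc e sqb
  haveI : LocallyOfFiniteType k.left := hft' a b k ha hb e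
  haveI : LocallyQuasiFinite h₀.left :=
    (h a₀ b₀ h₀ ((etale_surjective_of_square sqa).1 ha) ((etale_surjective_of_square sqb).1 hb) e₀).1
  exact ⟨SweepSix.locallyQuasiFinite_of_thickening hjV sqh, inferInstance⟩

theorem locP_unr_of_thick (hft' : LocP @LocallyOfFiniteType f')
    (h : LocP (@LocallyOfFiniteType ⊓ @FormallyUnramified) f) :
    LocP (@LocallyOfFiniteType ⊓ @FormallyUnramified) f' := by
  intro U V a b k ha hb e
  obtain ⟨V₀, jV, b₀, sqb, hjV⟩ := exists_thick_chart hj b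
  obtain ⟨U₀, iU, a₀, h₀, sqa, e₀, sqh, -⟩ := exists_square_chart hc e sqb
  haveI : LocallyOfFiniteType k.left := hft' a b k ha hb e
  exact ⟨inferInstance, SweepSix.formallyUnramified_of_thickening hjV sqh
    (h a₀ b₀ h₀ ((etale_surjective_of_square sqa).1 ha) ((etale_surjective_of_square sqb).1 hb) e₀).2⟩

include hX' hY hY'

theorem fibreDim_iff (hft' : LocP @LocallyOfFiniteType f') (P : WithBot ℕ∞ → Prop) :
    (∀ x, HasAtMor (fun _ _ h u => P (FlatMor.fibreDimAt h u)) f x) ↔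
      ∀ x', HasAtMor (fun _ _ h u => P (FlatMor.fibreDimAt h u)) f' x' := by
  constructor
  · intro H x'
    obtain ⟨x, rfl⟩ := (map_bijective (repWith_of_isPullback hc.flip hj)).2 x'
    exact (hasAtMor_fibreDim_baseChange hX' hY' hY hc hft' P x).1 (H x)
  · exact fun H x => (hasAtMor_fibreDim_baseChange hX' hY' hY hc hft' P x).2 (H _)

end Cart

end AlgSpThickLib
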