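import Groth.Agent.AlgSpThickLib.Global
import Groth.Agent.AlgSpLib.Iso
import Groth.Agent.SweepSix.FlatCancel
import Groth.Agent.ThickFlatLib.Apps
import Groth.Prelude.Def_AlgSpMor5

/-!
# Deformations of morphisms of algebraic spaces
-/

set_option autoImplicit false
set_option linter.style.haveILetI false
universe u

open CategoryTheory CategoryTheory.Limits AlgebraicGeometry Topology
open AlgSp AlgSpLib

namespace AlgSpThickLib

/-- Finite type along a finite order thickening of the base of the base. -/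
theorem lft_of_finiteOrder_base {X X' Y Y' S S' : Scheme.{u}} {iX : X ⟶ X'} {iY : Y ⟶ Y'} {iS : S ⟶ S'}
    {f : X ⟶ Y} {f' : X' ⟶ Y'} {g : Y ⟶ S} {g' : Y' ⟶ S'} (hS : MoreMor.IsFiniteOrderThickening iS)
    (hc : IsPullback iX f f' iY) (hcY : IsPullback iY g g' iS) (hf : LocallyOfFiniteType f) :
    LocallyOfFiniteType f' := by
  obtain ⟨⟨_, _⟩, hn⟩ := hS
  refine ThickFlatLib.of_forall_chart (iS := iS) (g' := g') @LocallyOfFiniteType fun {V U W} D => ?_
  obtain ⟨B, A, _, _, k, h, c, hh, hks, hker, sq⟩ := ThickFlatLib.exists_piece iS @LocallyOfFiniteType hc hcY hf D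
  have := D.hV
  have : IsAffine W := D.hW
  have : IsAffine U := D.hU
  refine (HasRingHomProperty.iff_of_isAffine (P := @LocallyOfFiniteType)).2 ?_
  refine SweepSix.finiteType_of_nilpotent sq hks ?_ ((HasRingHomProperty.iff_of_isAffine (P := @LocallyOfFiniteType)).1 hh)
  obtain ⟨n, hn'⟩ := SweepSix.ker_isNilpotent iS hn ⟨W, D.hW⟩
  refine ⟨n, ?_⟩
  rw [hker, ← Ideal.map_pow, hn', Ideal.zero_eq_bot, Ideal.map_bot]
  rfl

variable {S : Scheme.{u}} {X X' Y Y' B B' : Sp S} {iX : X ⟶ X'} {iY : Y ⟶ Y'} {iB : B ⟶ B'}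
  {f : X ⟶ Y} {f' : X' ⟶ Y'} {g : Y ⟶ B} {g' : Y' ⟶ B'}

/-- Charts of the whole deformation diagram. -/
theorem exists_deform_chart (hX' : IsAlgSpace X') (hY' : IsAlgSpace Y') (hB' : IsAlgSpace B')
    (hcY : IsPullback iY g g' iB) (hc : IsPullback iX f f' iY) (hB : IsThickMor iB) :
    ∃ (U W V U₀ W₀ V₀ : Over S) (a : (yon S).obj U ⟶ X') (b : (yon S).obj W ⟶ Y') (c : (yon S).obj V ⟶ B')
      (h : U ⟶ W) (q : W ⟶ V) (a₀ : (yon S).obj U₀ ⟶ X) (b₀ : (yon S).obj W₀ ⟶ Y) (h₀ : U₀ ⟶ W₀) (q₀ : W₀ ⟶ V₀)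
      (iU : U₀ ⟶ U) (iW : W₀ ⟶ W) (jV : V₀ ⟶ V),
      RepWith @Etale a ∧ RepWith @Surjective a ∧ RepWith @Etale b ∧ RepWith @Etale c ∧
      a ≫ f' = (yon S).map h ≫ b ∧ b ≫ g' = (yon S).map q ≫ c ∧
      RepWith @Etale a₀ ∧ RepWith @Surjective a₀ ∧ RepWith @Etale b₀ ∧ a₀ ≫ f = (yon S).map h₀ ≫ b₀ ∧
      MoreMor.IsThickening jV.left ∧ IsPullback iU.left h₀.left h.left iW.left ∧
      IsPullback iW.left q₀.left q.left jV.left ∧ (∀ n, IsNThickMor n iB → jV.left.ker ^ (n + 1) = ⊥) := by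
  obtain ⟨V, c, hc', hcs⟩ := hB'.atlas
  obtain ⟨W, b, q, hb, hbs, eq⟩ := exists_chart_over hY' hB' g' c hc' hcs
  obtain ⟨U, a, h, ha, has, eh⟩ := exists_chart_over hX' hY' f' b hb hbs
  obtain ⟨V₀, jV, c₀, sqc, hjV⟩ := exists_thick_chart hB c
  obtain ⟨W₀, iW, b₀, q₀, sqb, -, sqq, -⟩ := exists_square_chart hcY eq sqc
  obtain ⟨U₀, iU, a₀, h₀, sqa, eh₀, sqh, -⟩ := exists_square_chart hc eh sqb
  exact ⟨U, W, V, U₀, W₀, V₀, a, b, c, h, q, a₀, b₀, h₀, q₀, iU, iW, jV, ha, has, hb, hc', eh, eq,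
    (etale_surjective_of_square sqa).1 ha, (etale_surjective_of_square sqa).2 has,
    (etale_surjective_of_square sqb).1 hb, eh₀, hjV, sqh, sqq, fun n hn => ker_pow_eq_bot hn hc' sqc⟩

variable (hX : IsAlgSpace X) (hX' : IsAlgSpace X') (hY : IsAlgSpace Y) (hY' : IsAlgSpace Y')
  (hB' : IsAlgSpace B') (hcX : IsPullback iX (f ≫ g) (f' ≫ g') iB) (hcY : IsPullback iY g g' iB)
  (w : iX ≫ f' = f ≫ iY)

include hX' hY' hB' hcX hcY w

/-- Reduction of a chart property to deformations of schemes. -/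
theorem locP_deform {P : MorphismProperty Scheme.{u}} [EtLocProp P] (hB : IsThickMor iB) (hflat : LocP @Flat (f' ≫ g'))
    (H : ∀ {U U₀ W W₀ V V₀ : Scheme.{u}} (iU : U₀ ⟶ U) (iW : W₀ ⟶ W) (jV : V₀ ⟶ V) (h₀ : U₀ ⟶ W₀) (h : U ⟶ W)
      (q₀ : W₀ ⟶ V₀) (q : W ⟶ V), MoreMor.IsThickening jV → (∀ n, IsNThickMor n iB → jV.ker ^ (n + 1) = ⊥) →
      IsPullback iU (h₀ ≫ q₀) (h ≫ q) jV → IsPullback iW q₀ q jV → iU ≫ h = h₀ ≫ iW → Flat (h ≫ q) →
      (∀ Q : MorphismProperty Scheme.{u}, LocP Q (f' ≫ g') → Q (h ≫ q)) →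
      (∀ Q : MorphismProperty Scheme.{u}, LocP Q g' → Q q) → (P h₀ ↔ P h)) :
    LocP P f ↔ LocP P f' := by
  obtain ⟨U, W, V, U₀, W₀, V₀, a, b, c, h, q, a₀, b₀, h₀, q₀, iU, iW, jV, ha, has, hb, hc', eh, eq, ha₀, has₀,
    hb₀, eh₀, hjV, sqh, sqq, hker⟩ := exists_deform_chart hX' hY' hB' hcY (IsPullback.of_bot hcX w hcY) hB
  rw [locP_iff_chart ha₀ has₀ hb₀ eh₀, locP_iff_chart ha has hb eh]
  have ecomp : a ≫ f' ≫ g' = (yon S).map (h ≫ q) ≫ c := by
    rw [reassoc_of% eh, eq, Functor.map_comp, Category.assoc]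
  exact H iU.left iW.left jV.left h₀.left h.left q₀.left q.left hjV hker (sqh.paste_vert sqq) sqq sqh.w
    (hflat a c (h ≫ q) ha hc' ecomp) (fun Q hQ => hQ a c (h ≫ q) ha hc' ecomp) (fun Q hQ => hQ b c q hb hc' eq)

section FinOrder

variable (hB : IsFinThickMor iB) (hflat : LocP @Flat (f' ≫ g'))

include hB hflat

theorem flat_iff : LocP @Flat f ↔ LocP @Flat f' := by
  obtain ⟨n, hn⟩ := hB
  refine locP_deform hX' hY' hB' hcX hcY w hn.1 hflat ?_
  intro U U₀ W W₀ V V₀ iU iW jV h₀ h q₀ q hjV hker sqX sqY w' hfl _ _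
  haveI := hfl
  exact ⟨fun _ => ThickFlatLib.flat_of_finiteOrder ⟨hjV, n + 1, hker n hn⟩ sqX sqY w',
    fun e => MorphismProperty.of_isPullback (P := @Flat) (IsPullback.of_bot sqX w' sqY) e⟩

theorem lft_iff : LocP @LocallyOfFiniteType f ↔ LocP @LocallyOfFiniteType f' := by
  obtain ⟨n, hn⟩ := hB
  refine locP_deform hX' hY' hB' hcX hcY w hn.1 hflat ?_
  intro U U₀ W W₀ V V₀ iU iW jV h₀ h q₀ q hjV hker sqX sqY w' hfl _ _
  exact ⟨lft_of_finiteOrder_base ⟨hjV, n + 1, hker n hn⟩ (IsPullback.of_bot sqX w' sqY) sqY,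
    fun e => MorphismProperty.of_isPullback (P := @LocallyOfFiniteType) (IsPullback.of_bot sqX w' sqY) e⟩

theorem lfp_iff : LocP @LocallyOfFinitePresentation f ↔ LocP @LocallyOfFinitePresentation f' := by
  obtain ⟨n, hn⟩ := hB
  refine locP_deform hX' hY' hB' hcX hcY w hn.1 hflat ?_
  intro U U₀ W W₀ V V₀ iU iW jV h₀ h q₀ q hjV hker sqX sqY w' hfl _ _
  haveI := hfl
  exact ⟨fun e => haveI := e; ThickFlatLib.lfp_of_finiteOrder ⟨hjV, n + 1, hker n hn⟩ sqX sqY w',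
    fun e => MorphismProperty.of_isPullback (P := @LocallyOfFinitePresentation) (IsPullback.of_bot sqX w' sqY) e⟩

theorem smooth_iff : LocP @Smooth f ↔ LocP @Smooth f' := by
  obtain ⟨n, hn⟩ := hB
  refine locP_deform hX' hY' hB' hcX hcY w hn.1 hflat ?_
  intro U U₀ W W₀ V V₀ iU iW jV h₀ h q₀ q hjV hker sqX sqY w' hfl _ _
  haveI := hfl
  exact ⟨fun e => haveI := e; ThickFlatLib.smooth_of_finiteOrder ⟨hjV, n + 1, hker n hn⟩ sqX sqY w',
    fun e => MorphismProperty.of_isPullback (P := @Smooth) (IsPullback.of_bot sqX w' sqY) e⟩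

theorem etale_iff : IsEtaleMor f ↔ IsEtaleMor f' := by
  rw [isEtaleMor_iff_locP (isAlgSpace_of_representable hY' iY (repWith_of_isPullback hcY.flip hB.choose_spec.1).rep),
    isEtaleMor_iff_locP hY']
  obtain ⟨n, hn⟩ := hB
  refine locP_deform hX' hY' hB' hcX hcY w hn.1 hflat ?_
  intro U U₀ W W₀ V V₀ iU iW jV h₀ h q₀ q hjV hker sqX sqY w' hfl _ _
  haveI := hfl
  refine ⟨fun e => ?_, fun e => MorphismProperty.of_isPullback (P := @Etale) (IsPullback.of_bot sqX w' sqY) e⟩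
  haveI := e
  haveI := ThickFlatLib.smooth_of_finiteOrder ⟨hjV, n + 1, hker n hn⟩ sqX sqY w'
  exact ThickFlatLib.etale_of_smooth (ThickFlatLib.isThickening_base hjV sqY) (IsPullback.of_bot sqX w' sqY)

end FinOrder

section FP

variable (hB : IsThickMor iB) (hg' : LocP @LocallyOfFiniteType g') (hflat : LocP @Flat (f' ≫ g'))
  (hfp : LocP @LocallyOfFinitePresentation (f' ≫ g'))

include hB hg' hflat hfp

theorem flat_iff_fp : LocP @Flat f ↔ LocP @Flat f' := by
  refine locP_deform hX' hY' hB' hcX hcY w hB hflat ?_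
  intro U U₀ W W₀ V V₀ iU iW jV h₀ h q₀ q hjV _ sqX sqY w' hfl Hc Hq
  haveI := hfl
  haveI : LocallyOfFinitePresentation (h ≫ q) := Hc _ hfp
  haveI : LocallyOfFiniteType q := Hq _ hg'
  exact ⟨fun e => haveI := e; ThickFlatLib.flat_of_thickening hjV sqX sqY w',
    fun e => MorphismProperty.of_isPullback (P := @Flat) (IsPullback.of_bot sqX w' sqY) e⟩

theorem smooth_iff_fp : LocP @Smooth f ↔ LocP @Smooth f' := by
  refine locP_deform hX' hY' hB' hcX hcY w hB hflat ?_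
  intro U U₀ W W₀ V V₀ iU iW jV h₀ h q₀ q hjV _ sqX sqY w' hfl Hc Hq
  haveI := hfl
  haveI : LocallyOfFinitePresentation (h ≫ q) := Hc _ hfp
  haveI : LocallyOfFiniteType q := Hq _ hg'
  exact ⟨fun e => haveI := e; ThickFlatLib.smooth_of_thickening hjV sqX sqY w',
    fun e => MorphismProperty.of_isPullback (P := @Smooth) (IsPullback.of_bot sqX w' sqY) e⟩

theorem etale_iff_fp : IsEtaleMor f ↔ IsEtaleMor f' := by
  rw [isEtaleMor_iff_locP (isAlgSpace_of_representable hY' iY (repWith_of_isPullback hcY.flip hB).rep),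
    isEtaleMor_iff_locP hY']
  refine locP_deform hX' hY' hB' hcX hcY w hB hflat ?_
  intro U U₀ W W₀ V V₀ iU iW jV h₀ h q₀ q hjV _ sqX sqY w' hfl Hc Hq
  haveI := hfl
  haveI : LocallyOfFinitePresentation (h ≫ q) := Hc _ hfp
  haveI : LocallyOfFiniteType q := Hq _ hg'
  refine ⟨fun e => ?_, fun e => MorphismProperty.of_isPullback (P := @Etale) (IsPullback.of_bot sqX w' sqY) e⟩
  haveI := e
  haveI := ThickFlatLib.smooth_of_thickening hjV sqX sqY w'
  exact ThickFlatLib.etale_of_smooth (ThickFlatLib.isThickening_base hjV sqY) (IsPullback.of_bot sqX w' sqY)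

end FP

omit hcX hcY w in
/-- `f'` is locally of finite presentation in the fp over ft case. -/
theorem lfp_of_fp_over_ft (hg' : LocP @LocallyOfFiniteType g') (hfp : LocP @LocallyOfFinitePresentation (f' ≫ g')) :
    LocP @LocallyOfFinitePresentation f' := by
  obtain ⟨V, c, hc', hcs⟩ := hB'.atlas
  obtain ⟨W, b, q, hb, hbs, eq⟩ := exists_chart_over hY' hB' g' c hc' hcs
  obtain ⟨U, a, h, ha, has, eh⟩ := exists_chart_over hX' hY' f' b hb hbs
  haveI : LocallyOfFiniteType q.left := hg' b c q hb hc' eq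
  haveI : LocallyOfFinitePresentation (h.left ≫ q.left) := hfp a c (h ≫ q) ha hc'
    (by rw [reassoc_of% eh, eq, Functor.map_comp, Category.assoc])
  exact locP_of_chart ha has hb eh (lfp_of_comp_lft h.left q.left)

omit hcX hcY w hB' in
/-- Flatness of `g'` at the image of a flat morphism with flat composite. -/
theorem isFlatAtMor_image (hf' : LocP @Flat f') (hflat : LocP @Flat (f' ≫ g')) (x' : Points X') :
    IsFlatAtMor g' (Points.map f' x') := by
  intro W V b c q u hb hc' e hu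
  obtain ⟨U, d, h, hd, hds, hdh⟩ := exists_atlas_pullback hX' hY' f' b
  have sq := IsPullback.of_hasPullback f' b
  obtain ⟨z, hz1, hz2⟩ := exists_point_isPullback sq x' (Points.schemeEquiv W u) (by
    rw [← hu, Points.ofPt_eq_map_ofScheme]; rfl)
  obtain ⟨t, ht⟩ := surjective_ofPt hds z
  let a := d ≫ pullback.fst f' b
  have ha : RepWith @Etale a := repWith_comp hd (repWith_of_isPullback sq.flip hb)
  have ea : a ≫ f' = (yon S).map h ≫ b := by
    rw [Category.assoc, sq.w, ← Category.assoc, hdh]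
  have ht2 : h.left t = u := by
    apply (Points.schemeEquiv W).injective
    rw [← hz2, ← ht, Points.map_ofPt, hdh]
    exact (Points.map_yon_map_apply h t).symm.trans (by rw [Points.ofPt_eq_map_ofScheme]; rfl)
  haveI : Flat h.left := hf' a b h ha hb ea
  haveI : Flat (h.left ≫ q.left) := hflat a c (h ≫ q) ha hc'
    (by rw [reassoc_of% ea, e, Functor.map_comp, Category.assoc])
  rw [← ht2]
  exact (SweepSix.flat_stalkMap_comp_iff h.left q.left t (Flat.stalkMap h.left t)).1 (Flat.stalkMap (h.left ≫ q.left) t)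

end AlgSpThickLib
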