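import Groth.Agent.AlgSpThickLib.Deform

/-!
# Isomorphisms, open immersions, monomorphisms and finite locally free morphisms under deformation
-/

set_option autoImplicit false
set_option linter.style.haveILetI false
universe u

open CategoryTheory CategoryTheory.Limits AlgebraicGeometry Topology
open AlgSp AlgSpLib

namespace AlgSpThickLib

variable {S : Scheme.{u}} {X X' Y Y' B B' : Sp S} {iX : X ⟶ X'} {iY : Y ⟶ Y'} {iB : B ⟶ B'}
  {f : X ⟶ Y} {f' : X' ⟶ Y'} {g : Y ⟶ B} {g' : Y' ⟶ B'}

/-- The deformation square of the self products. -/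
theorem exists_diag_data (hcX : IsPullback iX (f ≫ g) (f' ≫ g') iB) (hc : IsPullback iX f f' iY) :
    ∃ q : pullback f f ⟶ pullback f' f',
      IsPullback q (pullback.fst f f ≫ f ≫ g) (pullback.fst f' f' ≫ f' ≫ g') iB ∧
      iX ≫ pullback.diagonal f' = pullback.diagonal f ≫ q ∧
      IsPullback iX (pullback.diagonal f ≫ pullback.fst f f ≫ f ≫ g)
        (pullback.diagonal f' ≫ pullback.fst f' f' ≫ f' ≫ g') iB := by
  let q : pullback f f ⟶ pullback f' f' := pullback.map f f f' f' iX iX iY hc.w.symm hc.w.symm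
  have e : iX ≫ pullback.diagonal f' = pullback.diagonal f ≫ q := by
    apply pullback.hom_ext
    · rw [Category.assoc, Category.assoc, pullback.diagonal_fst, Category.comp_id, pullback.lift_fst,
        pullback.diagonal_fst_assoc]
    · rw [Category.assoc, Category.assoc, pullback.diagonal_snd, Category.comp_id, pullback.lift_snd,
        pullback.diagonal_snd_assoc]
  have h1 : IsPullback q (pullback.fst f f) (pullback.fst f' f') iX := by
    have out : IsPullback (q ≫ pullback.snd f' f') (pullback.fst f f) f' (iX ≫ f') := by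
      rw [show q ≫ pullback.snd f' f' = pullback.snd f f ≫ iX from pullback.lift_snd _ _ _, hc.w]
      exact (IsPullback.of_hasPullback f f).flip.paste_horiz hc
    exact IsPullback.of_right out (pullback.lift_fst _ _ _) (IsPullback.of_hasPullback f' f').flip
  refine ⟨q, h1.paste_vert hcX, e, ?_⟩
  rw [pullback.diagonal_fst_assoc, pullback.diagonal_fst_assoc]
  exact hcX

variable (hX : IsAlgSpace X) (hX' : IsAlgSpace X') (hY : IsAlgSpace Y) (hY' : IsAlgSpace Y')
  (hB : IsThickMor iB) (hcX : IsPullback iX (f ≫ g) (f' ≫ g') iB) (hcY : IsPullback iY g g' iB)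
  (w : iX ≫ f' = f ≫ iY)

include hX hX' hY hY' hB hcX hcY w

/-- Monomorphisms, from the etale criterion for the diagonal. -/
theorem mono_iff_of_etale (hE : IsEtaleMor (pullback.diagonal f) → IsEtaleMor (pullback.diagonal f')) :
    Mono f ↔ Mono f' := by
  have hc := IsPullback.of_bot hcX w hcY
  refine ⟨fun h => ?_, fun h => MorphismProperty.of_isPullback (P := MorphismProperty.monomorphisms (Sp S)) hc h⟩
  have hiY : IsThickMor iY := repWith_of_isPullback hcY.flip hB
  have hiX : IsThickMor iX := repWith_of_isPullback hcX.flip hB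
  obtain ⟨q, hq, e⟩ := exists_diagonal_square hiX hiY hc.w
  have hP := isAlgSpace_pullback hX hX hY f f
  have hP' := isAlgSpace_pullback hX' hX' hY' f' f'
  haveI : IsIso (pullback.diagonal f) := (pullback.isIso_diagonal_iff f).2 h
  haveI : IsIso (pullback.diagonal f') := isIso_of_mono_etale_surjective hX' hP' _
    (hE (isEtaleMor_of_isIso' _))
    ((isSurjectiveMor_iff hX hX' hP hP' hiX hq e).1 (isSurjectiveMor_of_isIso _))
  exact (pullback.isIso_diagonal_iff f').1 inferInstance

theorem openImmersion_iff_of_etale (hE : IsEtaleMor f → IsEtaleMor f') (hM : Mono f ↔ Mono f') :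
    RepWith @IsOpenImmersion f ↔ RepWith @IsOpenImmersion f' := by
  refine ⟨fun h => ?_, fun h => repWith_of_isPullback (IsPullback.of_bot hcX w hcY) h⟩
  haveI := hM.1 (mono_of_openImmersion h)
  exact repWith_openImmersion_of_mono_etale hX' hY' f' (hE (isEtaleMor_of_openImmersion h))

theorem isIso_iff_of_etale (hE : IsEtaleMor f → IsEtaleMor f') (hM : Mono f ↔ Mono f') :
    IsIso f ↔ IsIso f' := by
  refine ⟨fun h => ?_, fun h => MorphismProperty.of_isPullback (P := MorphismProperty.isomorphisms (Sp S))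
    (IsPullback.of_bot hcX w hcY) h⟩
  haveI := h
  haveI := hM.1 inferInstance
  exact isIso_of_mono_etale_surjective hX' hY' f' (hE (isEtaleMor_of_isIso' f))
    ((isSurjectiveMor_iff hX hX' hY hY' (repWith_of_isPullback hcX.flip hB) (repWith_of_isPullback hcY.flip hB) w).1
      (isSurjectiveMor_of_isIso f))

theorem finite_iff_of_lft (hl : LocP @LocallyOfFiniteType f → LocP @LocallyOfFiniteType f') :
    IsFiniteMor f ↔ IsFiniteMor f' := by
  have hc := IsPullback.of_bot hcX w hcY
  refine ⟨fun h => ?_, fun h => isFiniteMor_iff.2 (repWith_of_isPullback hc (isFiniteMor_iff.1 h))⟩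
  have h1 := ((isFiniteMor_iff_affine_proper hX hY).1 h).2.2.1.1
  exact (isFiniteMor_iff' hX hX' hY hY' (repWith_of_isPullback hcY.flip hB) hc h1 (hl h1)).1 h

theorem finLocFree_iff (hl : LocP @LocallyOfFiniteType f → LocP @LocallyOfFiniteType f')
    (hfl : LocP @Flat f → LocP @Flat f') (hfp : LocP @LocallyOfFinitePresentation f → LocP @LocallyOfFinitePresentation f') :
    IsFinLocFreeMor f ↔ IsFinLocFreeMor f' := by
  refine ⟨fun h => ?_, fun h => repWith_of_isPullback (IsPullback.of_bot hcX w hcY) h⟩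
  have hfin : RepWith @IsFinite f' := isFiniteMor_iff.1 ((finite_iff_of_lft hX hX' hY hY' hB hcX hcY w hl).1
    (isFiniteMor_iff.2 (repWith_mono (fun _ _ _ hg => hg.1) h)))
  have h2 := repWith_of_locP hY' hfin.rep (hfl (locP_of_repWith (repWith_mono (fun _ _ _ hg => hg.2.1) h)))
  have h3 := repWith_of_locP hY' hfin.rep (hfp (locP_of_repWith (repWith_mono (fun _ _ _ hg => hg.2.2) h)))
  exact ⟨hfin.rep, fun T W t fst snd sq => ⟨hfin.property t fst snd sq, h2.property t fst snd sq, h3.property t fst snd sq⟩⟩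

theorem finLocFreeOfDeg_iff (hflf : IsFinLocFreeMor f ↔ IsFinLocFreeMor f') (d : ℕ) :
    IsFinLocFreeOfDegMor d f ↔ IsFinLocFreeOfDegMor d f' := by
  have hc := IsPullback.of_bot hcX w hcY
  refine ⟨fun h => ?_, fun h => repWith_of_isPullback hc h⟩
  have hf' := hflf.1 (repWith_mono (fun _ _ _ hg => hg.1) h)
  refine ⟨hf'.rep, fun T W t fst snd sq => ?_⟩
  obtain ⟨hfin, hfl, hfp⟩ := hf'.property t fst snd sq
  refine ⟨⟨hfin, hfl, hfp⟩, fun y => ?_⟩
  obtain ⟨T₀, jT, t₀, sqt, hjT⟩ := exists_thick_chart (repWith_of_isPullback hcY.flip hB) t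
  obtain ⟨W₀, iW, fst₀, snd₀, sqa, e₀, sqh, sqo⟩ := exists_square_chart hc sq.w sqt
  have sq₀ : IsPullback fst₀ ((yon S).map snd₀) f t₀ := by
    refine IsPullback.of_right ?_ e₀ hc
    rw [sqa.w, sqt.w]
    exact (sqo.map (yon S)).paste_horiz sq
  haveI := hjT.2
  obtain ⟨y₀, rfl⟩ := jT.left.surjective y
  haveI : IsFinite snd.left := hfin
  haveI : Flat snd.left := hfl
  rw [← (h.property t₀ fst₀ snd₀ sq₀).2 y₀]
  exact (Scheme.Hom.finrank_of_isPullback _ _ _ _ sqh y₀).symm

end AlgSpThickLib
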