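import Groth.Agent.AlgSpThickLib.Chart
import Groth.Agent.AlgSpLib.FiniteNhd
import Groth.Agent.AlgSpLib.FormalEtale
import Groth.Agent.S1316

/-!
# Finite, proper and immersive morphisms along cartesian squares of thickenings
-/

set_option autoImplicit false
set_option linter.style.haveILetI false
universe u

open CategoryTheory CategoryTheory.Limits AlgebraicGeometry Topology
open AlgSp AlgSpLib

namespace AlgSpThickLib

variable {S : Scheme.{u}} {X X' Y Y' : Sp S} {i : X ⟶ X'} {j : Y ⟶ Y'} {f : X ⟶ Y} {f' : X' ⟶ Y'}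
  (hX : IsAlgSpace X) (hX' : IsAlgSpace X') (hY : IsAlgSpace Y) (hY' : IsAlgSpace Y')
  (hj : IsThickMor j) (hc : IsPullback i f f' j)
  (hft : LocP @LocallyOfFiniteType f) (hft' : LocP @LocallyOfFiniteType f')

include hX hX' hY hY' hj hc hft hft'

theorem isProperMor_iff : IsProperMor f ↔ IsProperMor f' := by
  have hi : IsThickMor i := repWith_of_isPullback hc.flip hj
  show _ ∧ (_ ∧ _) ∧ _ ↔ _ ∧ (_ ∧ _) ∧ _
  rw [isSeparatedMor_iff hX hX' hY hY' hi hj hc.w, isQuasiCompactMor_iff hX hX' hY hY' hi hj hc.w,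
    isUnivClosedMor_iff hX hX' hY hY' hi hj hc.w]
  exact ⟨fun h => ⟨h.1, ⟨hft', h.2.1.2⟩, h.2.2⟩, fun h => ⟨h.1, ⟨hft, h.2.1.2⟩, h.2.2⟩⟩

theorem isFiniteMor_iff' : IsFiniteMor f ↔ IsFiniteMor f' := by
  constructor
  · intro h
    have hp := ((isFiniteMor_iff_affine_proper hX hY).1 h).2
    have hq : LocP (@LocallyQuasiFinite ⊓ @LocallyOfFiniteType) f :=
      @locP_of_repWith _ _ (etLocProp_of_list (by simp)) _ _ _ (repWith_mono
        (fun _ _ g (_ : IsFinite g) => ⟨(inferInstance : LocallyQuasiFinite g), (inferInstance : LocallyOfFiniteType g)⟩)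
        (isFiniteMor_iff.1 h))
    exact isFiniteMor_of_proper_lqf hX' hY' ((isProperMor_iff hX hX' hY hY' hj hc hft hft').1 hp)
      (locP_lqf_of_thick hj hc hft' hq)
  · exact fun h => isFiniteMor_iff.2 (repWith_of_isPullback hc (isFiniteMor_iff.1 h))

theorem mono_of_thick_mono [Mono f] (hu : LocP (@LocallyOfFiniteType ⊓ @FormallyUnramified) f) : Mono f' :=
  mono_of_unramified_univInjective hX' hY' (locP_unr_of_thick hj hc hft' hu)
    ((isUnivInjectiveMor_iff hX hX' hY hY' (repWith_of_isPullback hc.flip hj) hj hc.w).1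
      (isUnivInjectiveMor_of_mono hX))

theorem closedImmersion_iff : RepWith @IsClosedImmersion f ↔ RepWith @IsClosedImmersion f' := by
  refine ⟨fun h => ?_, fun h => repWith_of_isPullback hc h⟩
  obtain ⟨huc, hu, hm, -⟩ := closedImmersion_props hX hY h
  haveI := hm
  haveI := mono_of_thick_mono hX hX' hY hY' hj hc hft hft' hu
  exact closedImmersion_of_univClosed_mono_lft hX' hY' hft'
    ((isUnivClosedMor_iff hX hX' hY hY' (repWith_of_isPullback hc.flip hj) hj hc.w).1 huc)

theorem immersion_iff : RepWith @IsImmersion f ↔ RepWith @IsImmersion f' := by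
  refine ⟨fun h => ?_, fun h => repWith_of_isPullback hc h⟩
  haveI : Mono f := mono_of_repWith (fun g (_ : IsImmersion g) => inferInstance) h
  have hu : LocP (@LocallyOfFiniteType ⊓ @FormallyUnramified) f :=
    @locP_of_repWith _ _ (etLocProp_of_list (by simp)) _ _ _ (repWith_mono
      (fun _ _ g (_ : IsImmersion g) =>
        ⟨(inferInstance : LocallyOfFiniteType g), (inferInstance : FormallyUnramified g)⟩) h)
  haveI := mono_of_thick_mono hX hX' hY hY' hj hc hft hft' hu
  have hr := representable_of_mono_lft hX' hY' hft'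
  have hlft := @repWith_of_locP _ _ (etLocProp_of_list (by simp)) _ _ hY' _ hr hft'
  refine ⟨hr, fun T W g fst snd sq => ?_⟩
  obtain ⟨T₀, jT, g₀, sqg, hjT⟩ := exists_thick_chart hj g
  obtain ⟨W₀, iW, fst₀, snd₀, sqa, e₀, sqh, sqo⟩ := exists_square_chart hc sq.w sqg
  have sq₀ : IsPullback fst₀ ((yon S).map snd₀) f g₀ := by
    refine IsPullback.of_right ?_ e₀ hc
    rw [sqa.w, sqg.w]
    exact (sqo.map (yon S)).paste_horiz sq
  haveI : LocallyOfFiniteType snd.left := hlft.property g fst snd sq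
  haveI : IsImmersion snd₀.left := h.property g₀ fst₀ snd₀ sq₀
  haveI : LocallyOfFiniteType snd₀.left := MorphismProperty.of_isPullback sqh inferInstance
  exact (Groth.Agent.S1316.result iW.left jT.left snd₀.left snd.left hjT sqh).1 inferInstance

end AlgSpThickLib
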