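import Groth.Agent.AlgSpLib.MorPack
import Groth.Agent.AlgSpLib.MonoRep
import Groth.Agent.AlgSpLib.Qc
import Groth.Agent.AlgSpLib.UnivClosed
import Groth.Prelude.Def_AlgSpInf

/-!
# Morphisms of thickenings of algebraic spaces: topological properties
-/

set_option autoImplicit false
set_option linter.style.haveILetI false
universe u

open CategoryTheory CategoryTheory.Limits AlgebraicGeometry Topology
open AlgSp AlgSpLib

namespace AlgSpThickLib

variable {S : Scheme.{u}}

instance : (thick.{u}).IsStableUnderComposition where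
  comp_mem f g hf hg := ⟨MorphismProperty.comp_mem (W := @IsClosedImmersion) f g hf.1 hg.1,
    MorphismProperty.comp_mem (W := @Surjective) f g hf.2 hg.2⟩

theorem thick_closed {F G : Sp S} {i : F ⟶ G} (hi : IsThickMor i) : RepWith @IsClosedImmersion i :=
  repWith_mono (fun _ _ _ h => h.1) hi

theorem mono_of_thick {F G : Sp S} {i : F ⟶ G} (hi : IsThickMor i) : Mono i :=
  mono_of_repWith (fun g (_ : IsClosedImmersion g) => inferInstance) (thick_closed hi)

instance : (thick.{u}).ContainsIdentities where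
  id_mem X := ⟨(inferInstance : IsClosedImmersion (𝟙 X)), (inferInstance : Surjective (𝟙 X))⟩

theorem thick_id (F : Sp S) : IsThickMor (𝟙 F) := repWith_of_isIso (𝟙 F)

theorem map_bijective {F G : Sp S} {i : F ⟶ G} (hi : IsThickMor i) : Function.Bijective (Points.map i) := by
  haveI := mono_of_thick hi
  exact ⟨injective_map_of_mono i, map_surjective_of_repWith (repWith_mono (fun _ _ _ h => h.2) hi)⟩

theorem isHomeomorph_map {F G : Sp S} (hF : IsAlgSpace F) (hG : IsAlgSpace G) {i : F ⟶ G}
    (hi : IsThickMor i) : IsHomeomorph (Points.map i) :=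
  isHomeomorph_iff_continuous_isClosedMap_bijective.2
    ⟨Points.continuous_map i, fun _ hA => isClosed_image_of_closedImmersion hF hG (thick_closed hi) hA,
      map_bijective hi⟩

/-- The map of fibre products induced by thickenings is a thickening. -/
theorem thick_of_isPullback_map {X X' Y Y' Z Z' W W' : Sp S} {i : X ⟶ X'} {j : Y ⟶ Y'} {k : Z ⟶ Z'}
    (hi : IsThickMor i) (hj : IsThickMor j) (hk : IsThickMor k) {f : X ⟶ Y} {f' : X' ⟶ Y'} {g : Z ⟶ Y}
    {g' : Z' ⟶ Y'} {fst : W ⟶ X} {snd : W ⟶ Z} (sq : IsPullback fst snd f g) {fst' : W' ⟶ X'} {snd' : W' ⟶ Z'}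
    (sq' : IsPullback fst' snd' f' g') (wf : i ≫ f' = f ≫ j) (wg : k ≫ g' = g ≫ j) (α : W ⟶ W')
    (hα1 : α ≫ fst' = fst ≫ i) (hα2 : α ≫ snd' = snd ≫ k) : IsThickMor α := by
  haveI := mono_of_thick hj
  let sq1 := IsPullback.of_hasPullback f' (k ≫ g')
  let m : W ⟶ pullback f' (k ≫ g') := pullback.lift (fst ≫ i) snd (by
    rw [Category.assoc, wf, wg, reassoc_of% sq.w])
  have out0 : IsPullback fst snd (i ≫ f') (k ≫ g') := by
    rw [wf, wg]
    exact IsPullback.mk' (by rw [reassoc_of% sq.w]) (fun T φ φ' e1 e2 => sq.hom_ext e1 e2)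
      (fun T a b e => ⟨sq.lift a b (by rw [← cancel_mono j, Category.assoc, Category.assoc, e]),
        sq.lift_fst _ _ _, sq.lift_snd _ _ _⟩)
  have out : IsPullback fst (m ≫ pullback.snd f' (k ≫ g')) (i ≫ f') (k ≫ g') := by
    rw [show m ≫ pullback.snd f' (k ≫ g') = snd from pullback.lift_snd _ _ _]
    exact out0
  have hm : IsThickMor m :=
    repWith_of_isPullback (IsPullback.of_bot out (pullback.lift_fst _ _ _).symm sq1) hi
  let n : pullback f' (k ≫ g') ⟶ W' := sq'.lift (pullback.fst f' (k ≫ g')) (pullback.snd f' (k ≫ g') ≫ k)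
    (by rw [sq1.w, Category.assoc])
  have hn : IsThickMor n := by
    refine repWith_of_isPullback (fst := pullback.snd f' (k ≫ g')) (g := snd') ?_ hk
    refine IsPullback.of_bot ?_ (sq'.lift_snd _ _ _).symm sq'.flip
    rw [sq'.lift_fst]
    exact sq1.flip
  have e : α = m ≫ n := sq'.hom_ext
    (by rw [hα1, Category.assoc, sq'.lift_fst]; exact (pullback.lift_fst _ _ _).symm)
    (by rw [hα2, Category.assoc, sq'.lift_snd, pullback.lift_snd_assoc])
  rw [e]
  exact repWith_comp hm hn

section Mor

variable {X X' Y Y' : Sp S} {i : X ⟶ X'} {j : Y ⟶ Y'} {f : X ⟶ Y} {f' : X' ⟶ Y'}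

theorem univSp_iff (Q : MorphismProperty (Sp S))
    (hQ : ∀ {A A' B B' : Sp S} (α : A ⟶ A') (β : B ⟶ B') (g : A ⟶ B) (g' : A' ⟶ B'),
      IsHomeomorph (Points.map α) → IsHomeomorph (Points.map β) → α ≫ g' = g ≫ β → (Q g ↔ Q g'))
    (hX : IsAlgSpace X) (hX' : IsAlgSpace X') (hY : IsAlgSpace Y) (hY' : IsAlgSpace Y')
    (hi : IsThickMor i) (hj : IsThickMor j) (w : i ≫ f' = f ≫ j) : UnivSp Q f ↔ UnivSp Q f' := by
  constructor
  · intro h Z Z' hZ g' fst' snd' sq'
    have sqk := IsPullback.of_hasPullback g' j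
    have hk : IsThickMor (pullback.fst g' j) := repWith_of_isPullback sqk.flip hj
    have hZ₀ := isAlgSpace_pullback hZ hY hY' g' j
    have sq := IsPullback.of_hasPullback f (pullback.snd g' j)
    let α := sq'.lift (pullback.fst f (pullback.snd g' j) ≫ i) (pullback.snd f (pullback.snd g' j) ≫ pullback.fst g' j)
      (by rw [Category.assoc, w, reassoc_of% sq.w, Category.assoc, sqk.w])
    have hα : IsThickMor α := thick_of_isPullback_map hi hj hk sq sq' w sqk.w α (sq'.lift_fst _ _ _) (sq'.lift_snd _ _ _)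
    exact (hQ α _ _ _ (isHomeomorph_map (isAlgSpace_of_isPullback hX hZ₀ hY sq)
      (isAlgSpace_of_isPullback hX' hZ hY' sq') hα) (isHomeomorph_map hZ₀ hZ hk) (sq'.lift_snd _ _ _)).1
      (h hZ₀ _ _ _ sq)
  · intro h Z W hZ g fst snd sq
    have sq' := IsPullback.of_hasPullback f' (g ≫ j)
    let α := sq'.lift (fst ≫ i) snd (by rw [Category.assoc, w, reassoc_of% sq.w])
    have hα : IsThickMor α := thick_of_isPullback_map hi hj (thick_id Z) sq sq' w (Category.id_comp _) α
      (sq'.lift_fst _ _ _) ((sq'.lift_snd _ _ _).trans (Category.comp_id _).symm)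
    exact (hQ α (𝟙 Z) _ _ (isHomeomorph_map (isAlgSpace_of_isPullback hX hZ hY sq)
      (isAlgSpace_of_isPullback hX' hZ hY' sq') hα) (isHomeomorph_map hZ hZ (thick_id Z))
      ((sq'.lift_snd _ _ _).trans (Category.comp_id _).symm)).2 (h hZ _ _ _ sq')

variable (hX : IsAlgSpace X) (hX' : IsAlgSpace X') (hY : IsAlgSpace Y) (hY' : IsAlgSpace Y')
  (hi : IsThickMor i) (hj : IsThickMor j) (w : i ≫ f' = f ≫ j)

theorem map_comp_eq {A A' B B' : Sp S} {α : A ⟶ A'} {β : B ⟶ B'} {g : A ⟶ B} {g' : A' ⟶ B'}
    (e : α ≫ g' = g ≫ β) : Points.map g' ∘ Points.map α = Points.map β ∘ Points.map g :=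
  funext fun x => by
    simp only [Function.comp_apply]
    rw [← Points.map_comp, e, Points.map_comp]

include hX hX' hY hY' hi hj w

theorem isUnivClosedMor_iff : IsUnivClosedMor f ↔ IsUnivClosedMor f' := by
  refine univSp_iff IsClosedMor (fun α β g g' hα hβ e => ?_) hX hX' hY hY' hi hj w
  show IsClosedMap (Points.map g) ↔ IsClosedMap (Points.map g')
  constructor
  · intro h
    refine IsClosedMap.of_comp_surjective hα.surjective hα.continuous ?_
    rw [map_comp_eq e]
    exact hβ.isClosedMap.comp h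
  · intro h A hA
    have h2 : IsClosed (Points.map β '' (Points.map g '' A)) := by
      rw [← Set.image_comp, ← map_comp_eq e, Set.image_comp]
      exact h _ (hα.isClosedMap _ hA)
    rw [← Set.preimage_image_eq (Points.map g '' A) hβ.injective]
    exact h2.preimage hβ.continuous

theorem isUnivOpenMor_iff : IsUnivOpenMor f ↔ IsUnivOpenMor f' := by
  refine univSp_iff IsOpenMor (fun α β g g' hα hβ e => ?_) hX hX' hY hY' hi hj w
  show IsOpenMap (Points.map g) ↔ IsOpenMap (Points.map g')
  constructor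
  · intro h A hA
    rw [← Set.image_preimage_eq A hα.surjective, ← Set.image_comp, map_comp_eq e, Set.image_comp]
    exact hβ.isOpenMap _ (h _ (hA.preimage hα.continuous))
  · intro h A hA
    rw [← Set.preimage_image_eq (Points.map g '' A) hβ.injective, ← Set.image_comp, ← map_comp_eq e, Set.image_comp]
    exact (h _ (hα.isOpenMap _ hA)).preimage hβ.continuous

theorem isUnivInjectiveMor_iff : IsUnivInjectiveMor f ↔ IsUnivInjectiveMor f' := by
  refine univSp_iff (fun _ _ g => Function.Injective (Points.map g)) (fun α β g g' hα hβ e => ?_) hX hX' hY hY' hi hj w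
  constructor
  · intro h x y hxy
    obtain ⟨a, rfl⟩ := hα.surjective x
    obtain ⟨b, rfl⟩ := hα.surjective y
    refine congrArg _ (h (hβ.injective ?_))
    exact (congrFun (map_comp_eq e) a).symm.trans (hxy.trans (congrFun (map_comp_eq e) b))
  · intro h x y hxy
    refine hα.injective (h ?_)
    exact (congrFun (map_comp_eq e) x).trans ((congrArg _ hxy).trans (congrFun (map_comp_eq e) y).symm)

theorem isSurjectiveMor_iff : IsSurjectiveMor f ↔ IsSurjectiveMor f' := by
  have e := map_comp_eq w
  show Function.Surjective (Points.map f) ↔ Function.Surjective (Points.map f')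
  constructor
  · intro h
    refine Function.Surjective.of_comp (g := Points.map i) ?_
    rw [e]
    exact (map_bijective hj).2.comp h
  · intro h
    refine Function.Surjective.of_comp_left (f := Points.map j) ?_ (map_bijective hj).1
    rw [← e]
    exact h.comp (map_bijective hi).2

theorem isQuasiCompactMor_iff : IsQuasiCompactMor f ↔ IsQuasiCompactMor f' := by
  constructor
  · intro h Z Z' hZ hqc g' fst' snd' sq'
    have sqk := IsPullback.of_hasPullback g' j
    have hk : IsThickMor (pullback.fst g' j) := repWith_of_isPullback sqk.flip hj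
    have hZ₀ := isAlgSpace_pullback hZ hY hY' g' j
    have sq := IsPullback.of_hasPullback f (pullback.snd g' j)
    let α := sq'.lift (pullback.fst f (pullback.snd g' j) ≫ i) (pullback.snd f (pullback.snd g' j) ≫ pullback.fst g' j)
      (by rw [Category.assoc, w, reassoc_of% sq.w, Category.assoc, sqk.w])
    have hα : IsThickMor α := thick_of_isPullback_map hi hj hk sq sq' w sqk.w α (sq'.lift_fst _ _ _) (sq'.lift_snd _ _ _)
    have := compactSpace_points_of_isQuasiCompactSp hqc
    have hqc₀ : IsQuasiCompactSp (pullback g' j) := isQuasiCompactSp_of_compactSpace hZ₀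
      (isHomeomorph_map hZ₀ hZ hk).homeomorph.symm.compactSpace
    exact isQuasiCompactSp_of_surjective (isAlgSpace_of_isPullback hX' hZ hY' sq') (map_bijective hα).2
      (h hZ₀ hqc₀ _ _ _ sq)
  · intro h Z W hZ hqc g fst snd sq
    have sq' := IsPullback.of_hasPullback f' (g ≫ j)
    let α := sq'.lift (fst ≫ i) snd (by rw [Category.assoc, w, reassoc_of% sq.w])
    have hα : IsThickMor α := thick_of_isPullback_map hi hj (thick_id Z) sq sq' w (Category.id_comp _) α
      (sq'.lift_fst _ _ _) ((sq'.lift_snd _ _ _).trans (Category.comp_id _).symm)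
    have hW := isAlgSpace_of_isPullback hX hZ hY sq
    have := compactSpace_points_of_isQuasiCompactSp (h hZ hqc _ _ _ sq')
    exact isQuasiCompactSp_of_compactSpace hW
      (isHomeomorph_map hW (isAlgSpace_of_isPullback hX' hZ hY' sq') hα).homeomorph.symm.compactSpace

end Mor

/-- The map on self fibre products. -/
theorem exists_diagonal_square {X X' Y Y' : Sp S} {i : X ⟶ X'} {j : Y ⟶ Y'} {f : X ⟶ Y} {f' : X' ⟶ Y'}
    (hi : IsThickMor i) (hj : IsThickMor j) (w : i ≫ f' = f ≫ j) :
    ∃ q : pullback f f ⟶ pullback f' f', IsThickMor q ∧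
      i ≫ pullback.diagonal f' = pullback.diagonal f ≫ q := by
  refine ⟨pullback.map f f f' f' i i j w.symm w.symm, ?_, ?_⟩
  · exact thick_of_isPullback_map hi hj hi (IsPullback.of_hasPullback f f) (IsPullback.of_hasPullback f' f') w w _
      (pullback.lift_fst _ _ _) (pullback.lift_snd _ _ _)
  · apply pullback.hom_ext
    · rw [Category.assoc, Category.assoc, pullback.diagonal_fst, Category.comp_id, pullback.lift_fst,
        pullback.diagonal_fst_assoc]
    · rw [Category.assoc, Category.assoc, pullback.diagonal_snd, Category.comp_id, pullback.lift_snd,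
        pullback.diagonal_snd_assoc]

theorem isSeparatedMor_iff {X X' Y Y' : Sp S} {i : X ⟶ X'} {j : Y ⟶ Y'} {f : X ⟶ Y} {f' : X' ⟶ Y'}
    (hX : IsAlgSpace X) (hX' : IsAlgSpace X') (hY : IsAlgSpace Y) (hY' : IsAlgSpace Y')
    (hi : IsThickMor i) (hj : IsThickMor j) (w : i ≫ f' = f ≫ j) : IsSeparatedMor f ↔ IsSeparatedMor f' := by
  obtain ⟨q, hq, e⟩ := exists_diagonal_square hi hj w
  rw [isSeparatedMor_iff_univClosed_diagonal hX hY, isSeparatedMor_iff_univClosed_diagonal hX' hY']
  exact isUnivClosedMor_iff hX hX' (isAlgSpace_pullback hX hX hY f f) (isAlgSpace_pullback hX' hX' hY' f' f') hi hq e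

theorem isQuasiSeparatedMor_iff {X X' Y Y' : Sp S} {i : X ⟶ X'} {j : Y ⟶ Y'} {f : X ⟶ Y} {f' : X' ⟶ Y'}
    (hX : IsAlgSpace X) (hX' : IsAlgSpace X') (hY : IsAlgSpace Y) (hY' : IsAlgSpace Y')
    (hi : IsThickMor i) (hj : IsThickMor j) (w : i ≫ f' = f ≫ j) :
    IsQuasiSeparatedMor f ↔ IsQuasiSeparatedMor f' := by
  obtain ⟨q, hq, e⟩ := exists_diagonal_square hi hj w
  have hP := isAlgSpace_pullback hX hX hY f f
  have hP' := isAlgSpace_pullback hX' hX' hY' f' f'
  show RepWith @QuasiCompact (pullback.diagonal f) ↔ RepWith @QuasiCompact (pullback.diagonal f')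
  rw [repWith_quasiCompact_iff hX hP (repWith_diagonal_properties hX f).1,
    repWith_quasiCompact_iff hX' hP' (repWith_diagonal_properties hX' f').1]
  exact isQuasiCompactMor_iff hX hX' hP hP' hi hq e

end AlgSpThickLib
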